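import Cfsg.Agent.H11.OctadStab
import Cfsg.Agent.H11.OctadList

/-!
Counting octads with a prescribed intersection with a fixed octad.
-/

set_option autoImplicit false

namespace Cfsg.Agent.H11

open Cfsg Cfsg.Agent.H12 MulAction
open scoped Pointwise

/-- The octad list is the set of octads, without repetition. -/
theorem octadList_spec :
    octads = ((octadList.map fin).toFinset : Set (Finset GolayPt)) ∧
      (octadList.map fin).Nodup := by
  have h : octads = ((octadList.map fin).toFinset : Set (Finset GolayPt)) := by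
    ext s; simp [mem_octads_iff, octadMasks_eq]
  refine ⟨h, List.dedup_eq_self.1 ((List.dedup_sublist _).eq_of_length ?_)⟩
  have h1 := card_octads_eq
  rw [h, Set.ncard_coe_finset, List.card_toFinset] at h1
  rw [h1, List.length_map]
  decide +kernel

/-- Counting octads with a decidable property. -/
theorem ncard_octads_filter {P : Finset GolayPt → Prop} (p : ℕ → Bool)
    (hp : ∀ m ∈ octadList, P (fin m) ↔ p m = true) :
    {o : Finset GolayPt | o ∈ octads ∧ P o}.ncard = (octadList.filter p).length := by
  obtain ⟨h, hnd⟩ := octadList_spec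
  have e : {o : Finset GolayPt | o ∈ octads ∧ P o} =
      (((octadList.filter p).map fin).toFinset : Set (Finset GolayPt)) := by
    ext o
    simp only [h, Set.mem_ofPred_eq, List.coe_toFinset, List.mem_map, List.mem_filter]
    constructor
    · rintro ⟨⟨m, hm, rfl⟩, hP⟩; exact ⟨m, ⟨hm, (hp m hm).1 hP⟩, rfl⟩
    · rintro ⟨m, ⟨hm, hpm⟩, rfl⟩; exact ⟨⟨m, hm, rfl⟩, (hp m hm).2 hpm⟩
  rw [e, Set.ncard_coe_finset,
    List.toFinset_card_of_nodup ((List.filter_sublist.map fin).nodup hnd), List.length_map]

/-- A mask with all bits among listed positions is a combination of their single bits. -/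
theorem mem_spanMasks_bits : ∀ (l : List ℕ) (m : ℕ), (∀ i, m.testBit i = true → i ∈ l) →
    m ∈ spanMasks (l.map (1 <<< ·))
  | [], m, h => by
    have : m = 0 := Nat.eq_of_testBit_eq fun i => by
      rw [Nat.zero_testBit]
      by_contra hc
      exact absurd (h i (by simpa using hc)) (by simp)
    simp [this, spanMasks]
  | a :: l, m, h => by
    simp only [List.map_cons, spanMasks, List.mem_append, List.mem_map]
    by_cases ha : m.testBit a = true
    · refine Or.inr ⟨(1 <<< a) ^^^ m, mem_spanMasks_bits l _ fun i hi => ?_, by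
        rw [← Nat.xor_assoc, Nat.xor_self, Nat.zero_xor]⟩
      rw [Nat.testBit_xor, Nat.one_shiftLeft, Nat.testBit_two_pow] at hi
      by_cases e : a = i
      · subst e; simp [ha] at hi
      · simp [e] at hi
        exact (List.mem_cons.1 (h i hi)).resolve_left (Ne.symm e)
    · refine Or.inl (mem_spanMasks_bits l m fun i hi => ?_)
      exact (List.mem_cons.1 (h i hi)).resolve_left (fun e => ha (e ▸ hi))

/-- The intersection counts for subsets of the first octad, checked. -/
theorem octad0_meet_check :
    ((spanMasks ([0, 1, 2, 3, 4, 7, 10, 12].map (1 <<< ·))).all fun s =>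
      (pop s != 2 || (octadList.filter fun m => octad0 &&& m == s).length == 16) &&
      (pop s != 4 || (octadList.filter fun m => octad0 &&& m == s).length == 4)) = true := by
  decide +kernel

/-- An octad meets a given two-element subset exactly in 16 octads and a four-element one in 4. -/
theorem octad_meet_counts (o : Finset GolayPt) (ho : o ∈ octads) (s : Finset GolayPt)
    (hs : s ⊆ o) :
    (s.card = 2 → {o' : Finset GolayPt | o' ∈ octads ∧ o ∩ o' = s}.ncard = 16) ∧
      (s.card = 4 → {o' : Finset GolayPt | o' ∈ octads ∧ o ∩ o' = s}.ncard = 4) := by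
  obtain ⟨g, hg, rfl⟩ := exists_smul_octad0 ho
  obtain ⟨sm, hsm, hsm'⟩ := exists_mask (g⁻¹ • s)
  have hs' : fin sm ⊆ fin octad0 := by
    rw [hsm']; rwa [← Finset.smul_finset_subset_smul_finset_iff (a := g), smul_inv_smul]
  have e : {o' : Finset GolayPt | o' ∈ octads ∧ g • fin octad0 ∩ o' = s} =
      (fun o => g • o) '' {o' | o' ∈ octads ∧ fin octad0 ∩ o' = fin sm} := by
    ext o'
    simp only [Set.mem_image, Set.mem_ofPred_eq]
    constructor
    · rintro ⟨h1, h2⟩
      refine ⟨g⁻¹ • o', ⟨smul_mem_octads (inv_mem hg) h1, ?_⟩, smul_inv_smul g o'⟩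
      rw [hsm', ← h2, Finset.smul_finset_inter, inv_smul_smul]
    · rintro ⟨o'', ⟨h1, h2⟩, rfl⟩
      exact ⟨smul_mem_octads hg h1, by rw [← Finset.smul_finset_inter, h2, hsm', smul_inv_smul]⟩
  have hc : (fin sm).card = s.card := by rw [hsm', Finset.card_smul_finset]
  rw [e, Set.ncard_image_of_injective _ (MulAction.injective g),
    ncard_octads_filter (fun m => octad0 &&& m == sm) (fun m _ => by
      rw [← fin_land, beq_iff_eq]
      exact fin_inj_iff (lt_of_le_of_lt Nat.and_le_left (by decide +kernel)) hsm), ← hc, card_fin]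
  have hmem : sm ∈ spanMasks ([0, 1, 2, 3, 4, 7, 10, 12].map (1 <<< ·)) := by
    refine mem_spanMasks_bits _ sm fun i hi => ?_
    have hi24 : i < 24 := by
      by_contra hc
      rw [Nat.testBit_lt_two_pow (lt_of_lt_of_le hsm
        (Nat.pow_le_pow_right (by decide) (not_lt.1 hc)))] at hi
      cases hi
    have h0 := (pt_mem_fin hi24).1 (hs' ((pt_mem_fin hi24).2 hi))
    exact (by decide +kernel : ∀ i < 24, octad0.testBit i = true →
      i ∈ [0, 1, 2, 3, 4, 7, 10, 12]) i hi24 h0
  have h := List.all_eq_true.1 octad0_meet_check sm hmem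
  simp only [Bool.and_eq_true, Bool.or_eq_true, bne_iff_ne, beq_iff_eq] at h
  exact ⟨fun h2 => h.1.resolve_left (not_not.2 h2), fun h4 => h.2.resolve_left (not_not.2 h4)⟩

end Cfsg.Agent.H11
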