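import Cfsg.Agent.H11.Code

/-!
The automorphism group of the code is the automorphism group of its octad system.
-/

set_option autoImplicit false

namespace Cfsg.Agent.H11

open Cfsg Cfsg.Agent.H12
open scoped Pointwise

/-- The reduced basis consists of octads. -/
theorem pivot_octad {b : ℕ} (hb : b ∈ pivotBasis.map Prod.snd) : fin b ∈ octads := by
  have h : ∀ b ∈ pivotBasis.map Prod.snd, pop b = 8 := by decide +kernel
  exact mem_octads_iff.2 ⟨b, List.mem_filter.2 ⟨mem_spanMasks_self hb, by simp [h b hb]⟩, rfl⟩

/-- A permutation mapping every basis word into the code preserves the code. -/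
theorem mem_M24_of_basis {g : Equiv.Perm GolayPt}
    (h : ∀ b ∈ pivotBasis.map Prod.snd,
      g • fin b ∈ supports (golayCode : Set (GolayPt → ZMod 2))) : g ∈ M24 := by
  rw [mem_M24_iff]
  intro w hw
  obtain ⟨m, hm, rfl⟩ := mem_golayCode_iff.1 hw
  have key : ∀ B : List ℕ, (∀ b ∈ B, word b ∘ g.symm ∈ golayCode) →
      ∀ m ∈ spanMasks B, word m ∘ g.symm ∈ golayCode := by
    intro B
    induction B with
    | nil =>
      intro _ m hm
      simp [spanMasks] at hm
      subst hm
      rw [word_zero]
      exact zero_mem _
    | cons b B ih =>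
      intro hB m hm
      simp only [spanMasks, List.mem_append, List.mem_map] at hm
      rcases hm with hm | ⟨x, hx, rfl⟩
      · exact ih (fun c hc => hB c (List.mem_cons_of_mem _ hc)) m hm
      · rw [word_xor]
        exact add_mem (hB b (List.mem_cons_self ..))
          (ih (fun c hc => hB c (List.mem_cons_of_mem _ hc)) x hx)
  refine key _ (fun b hb => ?_) m hm
  obtain ⟨v, hv, hvw⟩ := h b hb
  rw [← support₂_word, smul_support₂] at hvw
  rwa [← support₂_injective hvw]

/-- The automorphism group of the code is that of the octads. -/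
theorem M24_eq_setSystemAut_octads : M24 = setSystemAut octads := by
  refine le_antisymm (fun g hg => ?_) (fun g hg => mem_M24_of_basis fun b hb => ?_)
  · rw [MulAction.mem_stabilizer_iff]
    refine Set.eq_of_subset_of_ncard_le ?_ (le_of_eq ?_) (Set.toFinite _)
    · rintro _ ⟨o, ho, rfl⟩
      exact smul_mem_octads hg ho
    · exact (Set.ncard_image_of_injective _ (MulAction.injective g)).symm
  · have h := Set.smul_mem_smul_set (a := g) (pivot_octad hb)
    rw [MulAction.mem_stabilizer_iff.1 hg] at h
    exact h.1

end Cfsg.Agent.H11
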