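import Cfsg.Agent.H10.SimpleCriteria
import Cfsg.Agent.H10.SimpleDegree
import Cfsg.Agent.H11.M24Transitive

/-!
The automorphism group of the code and its point stabilisers are simple.
-/

set_option autoImplicit false

namespace Cfsg.Agent.H11

open Cfsg Cfsg.Agent.H12 MulAction
open scoped Pointwise

/-- A point stabiliser in the automorphism group of the code has order 10200960. -/
theorem card_stabilizer_point (p : GolayPt) : Nat.card (stabilizer M24 p) = 10200960 := by
  haveI := isMultiplyPretransitive_five
  haveI : IsPretransitive M24 GolayPt :=
    is_one_pretransitive_iff.1 (isMultiplyPretransitive_of_le (n := 5) (by decide) (by simp))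
  have h := (stabilizer M24 p).card_mul_index
  rw [index_stabilizer_of_transitive, card_M24] at h
  have h24 : Nat.card GolayPt = 24 := by simp
  rw [h24] at h
  omega

/-- A point stabiliser in the automorphism group of the code is simple. -/
theorem isSimpleGroup_stabilizer_point (p : GolayPt) : IsSimpleGroup (stabilizer M24 p) := by
  haveI := isMultiplyPretransitive_five
  haveI : IsPretransitive M24 GolayPt :=
    is_one_pretransitive_iff.1 (isMultiplyPretransitive_of_le (n := 5) (by decide) (by simp))
  haveI h2 : IsMultiplyPretransitive M24 GolayPt (1 + 1) :=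
    isMultiplyPretransitive_of_le (n := 5) (by decide) (by simp)
  haveI : IsPretransitive (stabilizer M24 p) (SubMulAction.ofStabilizer M24 p) :=
    is_one_pretransitive_iff.1 (SubMulAction.ofStabilizer.isMultiplyPretransitive.1 h2)
  haveI : Fact (Nat.Prime 23) := ⟨by norm_num⟩
  haveI : FaithfulSMul (stabilizer M24 p) (SubMulAction.ofStabilizer M24 p) := ⟨by
    intro g g' h
    apply Subtype.ext
    apply Subtype.ext
    refine Equiv.ext fun x => ?_
    by_cases hx : x = p
    · subst hx
      exact g.2.trans g'.2.symm
    · exact congrArg Subtype.val (h ⟨x, hx⟩)⟩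
  refine Cfsg.Agent.H10.isSimpleGroup_of_prime_degree
    (X := SubMulAction.ofStabilizer M24 p) (p := 23) (M := 443520) ?_ ?_ (by norm_num)
    (by norm_num) (by norm_num)
  · rw [SubMulAction.nat_card_ofStabilizer_eq]
    simp
  · rw [card_stabilizer_point]

/-- The automorphism group of the code is simple. -/
theorem isSimpleGroup_M24 : IsSimpleGroup M24 := by
  haveI := isMultiplyPretransitive_five
  haveI : IsMultiplyPretransitive M24 GolayPt 2 :=
    isMultiplyPretransitive_of_le (n := 5) (by decide) (by simp)
  haveI := isSimpleGroup_stabilizer_point none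
  refine Cfsg.Agent.H10.isSimpleGroup_of_stabilizer (X := GolayPt) ?_ (by simp) none
  intro h
  rw [show Nat.card GolayPt = 24 by simp] at h
  rw [isPrimePow_nat_iff_bounded] at h
  revert h
  decide +kernel

end Cfsg.Agent.H11
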