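import Cfsg.Agent.H11.M24Transitive

/-!
The stabiliser of an octad in the automorphism group of the code: the pointwise stabiliser is
elementary of order 16 and regular outside, and the induced group on the octad is alternating.
-/

set_option autoImplicit false

namespace Cfsg.Agent.H11

open Cfsg Cfsg.Agent.H12 MulAction
open scoped Pointwise

/-- The pointwise stabiliser of a set in the automorphism group of the code. -/
abbrev fixM24 (o : Finset GolayPt) : Subgroup (Equiv.Perm GolayPt) :=
  M24 ⊓ fixingSubgroup (Equiv.Perm GolayPt) (o : Set GolayPt)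

/-- The setwise stabiliser of a set in the automorphism group of the code. -/
abbrev stabM24 (o : Finset GolayPt) : Subgroup (Equiv.Perm GolayPt) :=
  M24 ⊓ stabilizer (Equiv.Perm GolayPt) o

/-- Membership in the pointwise stabiliser. -/
theorem mem_fixM24 {o : Finset GolayPt} {g : Equiv.Perm GolayPt} :
    g ∈ fixM24 o ↔ g ∈ M24 ∧ ∀ x ∈ o, g x = x := by
  simp [fixM24, Subgroup.mem_inf, mem_fixingSubgroup_iff, Equiv.Perm.smul_def]

/-- A stabilised set is preserved point by point. -/
theorem apply_mem_iff_of_smul_eq {o : Finset GolayPt} {g : Equiv.Perm GolayPt} (h : g • o = o)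
    (x : GolayPt) : g x ∈ o ↔ x ∈ o := by
  conv_lhs => rw [← h]
  exact Finset.smul_mem_smul_finset_iff g

/-- The pointwise stabiliser preserves the set. -/
theorem smul_eq_of_mem_fixM24 {o : Finset GolayPt} {g : Equiv.Perm GolayPt} (h : g ∈ fixM24 o) :
    g • o = o := by
  refine Finset.eq_of_subset_of_card_le (fun y hy => ?_) (Finset.card_smul_finset g o).ge
  obtain ⟨x, hx, rfl⟩ := Finset.mem_smul_finset.1 hy
  rwa [Equiv.Perm.smul_def, (mem_fixM24.1 h).2 x hx]

/-- The sixteen elements fixing the first octad pointwise. -/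
def octad0Fix : List ℕ := (m24Chain.getD 6 (0, [])).2

/-- The facts about the sixteen elements, checked. -/
theorem octad0Fix_check :
    ((octad0Fix.all fun P => m24Perms.contains P &&
      ((List.range 24).all fun i => (!octad0.testBit i || app P i == i) &&
        app P (app P i) == i && (octad0.testBit i || app P i != i ||
          (List.range 24).all fun j => app P j == j))) &&
    ((List.range 24).all fun n => octad0.testBit n ||
      octad0Fix.any fun P => app P 5 == n)) = true := by
  decide +kernel

/-- Every element fixing the first octad pointwise is one of the sixteen. -/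
theorem exists_of_mem_fixM24_octad0 {g : Equiv.Perm GolayPt} (hg : g ∈ fixM24 (fin octad0)) :
    ∃ P ∈ octad0Fix, g = permOf P := by
  have hc := octad0Fix_check
  simp only [Bool.and_eq_true, List.all_eq_true, List.contains_iff_mem, beq_iff_eq,
    List.mem_range, Bool.or_eq_true, List.any_eq_true, Bool.not_eq_true'] at hc
  obtain ⟨hP, hcov⟩ := hc
  have h5 : g (pt 5) ∉ fin octad0 := fun h => by
    rw [apply_mem_iff_of_smul_eq (smul_eq_of_mem_fixM24 hg), pt_mem_fin (by decide)] at h
    revert h
    decide +kernel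
  obtain ⟨P, hPm, hP5⟩ := (hcov (idx (g (pt 5))) (idx_lt _)).resolve_left
    (fun h => h5 (mem_fin.2 h))
  have hPp := m24Perms_mem P (hP P hPm).1
  refine ⟨P, hPm, ?_⟩
  have h1 : (permOf P)⁻¹ * g = 1 := by
    refine eq_one_of_fix_base (mul_mem (inv_mem (m24Gens_le hPp.2)) hg.1) fun x hx => ?_
    have hx' : x = 5 ∨ (x < 24 ∧ octad0.testBit x = true) :=
      (by decide +kernel : ∀ x ∈ m24Chain.map Prod.fst,
        x = 5 ∨ (x < 24 ∧ octad0.testBit x = true)) x hx
    rw [Equiv.Perm.mul_apply, Equiv.Perm.inv_eq_iff_eq]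
    rcases hx' with rfl | ⟨hx24, hxb⟩
    · rw [permOf_pt hPp.1 (by decide), hP5, pt_idx]
    · rw [(mem_fixM24.1 hg).2 _ ((pt_mem_fin hx24).2 hxb), permOf_pt hPp.1 hx24]
      rcases ((hP P hPm).2 x hx24).1.1 with h | h
      · rw [hxb] at h; cases h
      · rw [h]
  exact (inv_mul_eq_one.1 h1).symm

/-- The sixteen elements fix the first octad pointwise. -/
theorem permOf_mem_fixM24_octad0 {P : ℕ} (hPm : P ∈ octad0Fix) :
    permOf P ∈ fixM24 (fin octad0) := by
  have hc := octad0Fix_check
  simp only [Bool.and_eq_true, List.all_eq_true, List.contains_iff_mem, beq_iff_eq,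
    List.mem_range, Bool.or_eq_true, Bool.not_eq_true'] at hc
  have hPp := m24Perms_mem P (hc.1 P hPm).1
  refine mem_fixM24.2 ⟨m24Gens_le hPp.2, fun x hx => ?_⟩
  rw [← pt_idx x, permOf_pt hPp.1 (idx_lt x)]
  rcases ((hc.1 P hPm).2 _ (idx_lt x)).1.1 with h | h
  · rw [mem_fin.1 hx] at h; cases h
  · rw [h]

/-- An element fixing the first octad pointwise squares to one and, unless trivial, fixes no
other point. -/
theorem octad0Fix_props {g : Equiv.Perm GolayPt} (hg : g ∈ fixM24 (fin octad0)) :
    g * g = 1 ∧ ∀ p, p ∉ fin octad0 → g p = p → g = 1 := by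
  obtain ⟨P, hPm, rfl⟩ := exists_of_mem_fixM24_octad0 hg
  have hc := octad0Fix_check
  simp only [Bool.and_eq_true, List.all_eq_true, List.contains_iff_mem, beq_iff_eq,
    List.mem_range, Bool.or_eq_true, bne_iff_ne] at hc
  have hPp := m24Perms_mem P (hc.1 P hPm).1
  refine ⟨Equiv.ext (forall_pt.2 fun n hn => ?_), fun p hp hfix => ?_⟩
  · rw [Equiv.Perm.mul_apply, permOf_pt hPp.1 hn, permOf_pt hPp.1 (app_lt hPp.1 hn),
      ((hc.1 P hPm).2 n hn).1.2, Equiv.Perm.one_apply]
  · rcases ((hc.1 P hPm).2 _ (idx_lt p)).2 with (h | h) | h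
    · exact absurd (mem_fin.2 h) hp
    · exact absurd ((permOf_fixed_iff hPp.1 (idx_lt p)).1 (by rwa [pt_idx])) h
    · exact Equiv.ext (forall_pt.2 fun n hn => by
        rw [permOf_pt hPp.1 hn, h n hn, Equiv.Perm.one_apply])

/-- Conjugation moves pointwise stabilisers. -/
theorem conj_mem_fixM24 {o : Finset GolayPt} {g a : Equiv.Perm GolayPt} (hg : g ∈ M24)
    (ha : a ∈ fixM24 o) : g * a * g⁻¹ ∈ fixM24 (g • o) := by
  refine mem_fixM24.2 ⟨mul_mem (mul_mem hg ha.1) (inv_mem hg), fun x hx => ?_⟩
  obtain ⟨y, hy, rfl⟩ := Finset.mem_smul_finset.1 hx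
  simp [Equiv.Perm.smul_def, (mem_fixM24.1 ha).2 y hy]

/-- The pointwise stabiliser of an octad consists of elements squaring to one. -/
theorem mul_self_of_mem_fixM24 {o : Finset GolayPt} (ho : o ∈ octads) {a : Equiv.Perm GolayPt}
    (ha : a ∈ fixM24 o) : a * a = 1 := by
  obtain ⟨g, hg, rfl⟩ := exists_smul_octad0 ho
  have h := conj_mem_fixM24 (inv_mem hg) ha
  rw [inv_smul_smul, inv_inv] at h
  have h2 := (octad0Fix_props h).1
  have : g⁻¹ * (a * a) * g = 1 := by rw [← h2]; group
  rw [show a * a = g * (g⁻¹ * (a * a) * g) * g⁻¹ by group, this]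
  group

/-- An element fixing an octad pointwise and a further point is trivial. -/
theorem eq_one_of_mem_fixM24 {o : Finset GolayPt} (ho : o ∈ octads) {a : Equiv.Perm GolayPt}
    (ha : a ∈ fixM24 o) {p : GolayPt} (hp : p ∉ o) (hfix : a p = p) : a = 1 := by
  obtain ⟨g, hg, rfl⟩ := exists_smul_octad0 ho
  have h := conj_mem_fixM24 (inv_mem hg) ha
  rw [inv_smul_smul, inv_inv] at h
  have h2 := (octad0Fix_props h).2 (g⁻¹ p) (fun hc => hp ?_) (by simp [hfix])
  · rw [show a = g * (g⁻¹ * a * g) * g⁻¹ by group, h2]
    group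
  · have := Finset.smul_mem_smul_finset (a := g) hc
    simpa [Equiv.Perm.smul_def] using this

/-- The pointwise stabiliser of an octad is transitive on the other points. -/
theorem exists_fixM24_apply {o : Finset GolayPt} (ho : o ∈ octads) {p q : GolayPt}
    (hp : p ∉ o) (hq : q ∉ o) : ∃ a ∈ fixM24 o, a p = q := by
  obtain ⟨g, hg, rfl⟩ := exists_smul_octad0 ho
  have base : ∀ r, r ∉ g • fin octad0 → ∃ a ∈ fixM24 (g • fin octad0), a (g (pt 5)) = r := by
    intro r hr
    have hr' : g⁻¹ r ∉ fin octad0 := fun hc => hr (by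
      have := Finset.smul_mem_smul_finset (a := g) hc
      simpa [Equiv.Perm.smul_def] using this)
    have hc := octad0Fix_check
    simp only [Bool.and_eq_true, List.all_eq_true, List.contains_iff_mem, beq_iff_eq,
      List.mem_range, Bool.or_eq_true, List.any_eq_true] at hc
    obtain ⟨P, hPm, hP⟩ := (hc.2 _ (idx_lt (g⁻¹ r))).resolve_left
      (fun h => hr' (mem_fin.2 h))
    refine ⟨g * permOf P * g⁻¹, conj_mem_fixM24 hg (permOf_mem_fixM24_octad0 hPm), ?_⟩
    have hPp := m24Perms_mem P (hc.1 P hPm).1
    simp [permOf_pt hPp.1 (by decide : 5 < 24), hP, pt_idx]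
  obtain ⟨a, ha, rfl⟩ := base p hp
  obtain ⟨b, hb, rfl⟩ := base q hq
  exact ⟨b * a⁻¹, mul_mem hb (inv_mem ha), by simp⟩

/-- The pointwise stabiliser of an octad has order 16. -/
theorem card_fixM24 {o : Finset GolayPt} (ho : o ∈ octads) : Nat.card (fixM24 o) = 16 := by
  have hc : (Finset.univ \ o).card = 16 := by
    rw [Finset.card_sdiff, Finset.inter_univ, ho.2, Finset.card_univ]
    decide
  obtain ⟨p, hp⟩ := Finset.card_pos.1 (by rw [hc]; decide : 0 < (Finset.univ \ o).card)
  rw [Finset.mem_sdiff] at hp
  let f : fixM24 o → ↥(Finset.univ \ o) := fun a =>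
    ⟨(a : Equiv.Perm GolayPt) p, Finset.mem_sdiff.2 ⟨Finset.mem_univ _,
      fun h => hp.2 ((apply_mem_iff_of_smul_eq (smul_eq_of_mem_fixM24 a.2) p).1 h)⟩⟩
  have hf : Function.Bijective f := by
    refine ⟨fun a b h => ?_, fun q => ?_⟩
    · have h' : (a : Equiv.Perm GolayPt) p = (b : Equiv.Perm GolayPt) p := congrArg Subtype.val h
      have h1 := eq_one_of_mem_fixM24 ho (mul_mem (inv_mem b.2) a.2) hp.2 (by simp [h'])
      exact Subtype.ext (inv_mul_eq_one.1 h1).symm
    · obtain ⟨a, ha, haq⟩ := exists_fixM24_apply ho hp.2 (Finset.mem_sdiff.1 q.2).2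
      exact ⟨⟨a, ha⟩, Subtype.ext haq⟩
  rw [Nat.card_eq_of_bijective f hf, Nat.card_eq_fintype_card, Fintype.card_coe, hc]

/-- The number of octads, from the list of masks. -/
theorem card_octads_eq : Set.ncard octads = 759 := by
  have h : octads = ((octadMasks.map fin).toFinset : Set (Finset GolayPt)) := by
    ext s; simp [mem_octads_iff]
  have hl : octadMasks.length = 759 := by decide +kernel
  have hnd : codeMasks.Nodup := by
    have key : ∀ (B : List (ℕ × ℕ)),
        (∀ pb ∈ B, ∀ qb ∈ B, qb.2.testBit pb.1 = decide (pb.1 = qb.1)) →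
        (B.map Prod.fst).Nodup → (spanMasks (B.map Prod.snd)).Nodup := by
      intro B
      induction B with
      | nil => intro _ _; simp [spanMasks]
      | cons pb B ih =>
        intro hB hnd
        rw [List.map_cons, List.nodup_cons] at hnd
        have hB' : ∀ x ∈ B, ∀ y ∈ B, y.2.testBit x.1 = decide (x.1 = y.1) :=
          fun x hx y hy => hB x (List.mem_cons_of_mem _ hx) y (List.mem_cons_of_mem _ hy)
        have hoff : ∀ m ∈ spanMasks (B.map Prod.snd), m.testBit pb.1 = false := by
          have gen : ∀ C : List ℕ, (∀ c ∈ C, c.testBit pb.1 = false) →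
              ∀ m ∈ spanMasks C, m.testBit pb.1 = false := by
            intro C
            induction C with
            | nil => intro _ m hm; simp [spanMasks] at hm; simp [hm]
            | cons c C ihC =>
              intro hC m hm
              simp only [spanMasks, List.mem_append, List.mem_map] at hm
              rcases hm with hm | ⟨x, hx, rfl⟩
              · exact ihC (fun d hd => hC d (List.mem_cons_of_mem _ hd)) m hm
              · simp [hC c (List.mem_cons_self ..),
                  ihC (fun d hd => hC d (List.mem_cons_of_mem _ hd)) x hx]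
          refine gen _ fun c hc => ?_
          obtain ⟨qb, hqb, rfl⟩ := List.mem_map.1 hc
          rw [hB pb (List.mem_cons_self ..) qb (List.mem_cons_of_mem _ hqb), decide_eq_false_iff_not]
          intro e
          exact hnd.1 (e ▸ List.mem_map_of_mem hqb)
        simp only [List.map_cons, spanMasks]
        refine List.Nodup.append (ih hB' hnd.2) ((ih hB' hnd.2).map fun x y hxy => ?_) ?_
        · simpa using congrArg (pb.2 ^^^ ·) hxy
        · intro m hm hm'
          obtain ⟨x, hx, rfl⟩ := List.mem_map.1 hm'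
          have := hoff _ hm
          rw [Nat.testBit_xor, hoff x hx,
            hB pb (List.mem_cons_self ..) pb (List.mem_cons_self ..)] at this
          simp at this
    exact key pivotBasis (by decide +kernel) (by decide +kernel)
  have hnd' : (octadMasks.map fin).Nodup := by
    refine List.Nodup.map_on (fun x hx y hy e => ?_) (hnd.filter _)
    exact fin_inj (codeMasks_lt (List.mem_filter.1 hx).1) (codeMasks_lt (List.mem_filter.1 hy).1) e
  rw [h, Set.ncard_coe_finset, List.toFinset_card_of_nodup hnd', List.length_map, hl]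

/-- A stabiliser in the automorphism group of the code as a subgroup of all permutations. -/
theorem card_stabilizer_eq_card_inf {β : Type*} [MulAction (Equiv.Perm GolayPt) β] (x : β) :
    Nat.card ↥(stabilizer M24 x) = Nat.card ↥(M24 ⊓ stabilizer (Equiv.Perm GolayPt) x) :=
  Nat.card_congr
    { toFun := fun g => ⟨(g.1 : Equiv.Perm GolayPt), g.1.2, g.2⟩
      invFun := fun g => ⟨⟨g.1, g.2.1⟩, g.2.2⟩
      left_inv := fun _ => rfl
      right_inv := fun _ => rfl }

/-- Orbit-stabiliser in the automorphism group of the code, for an orbit of known size. -/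
theorem card_stabilizer_of_orbit {β : Type*} [MulAction (Equiv.Perm GolayPt) β] (x : β)
    {S : Set β} {n : ℕ} (hS : MulAction.orbit M24 x = S) (hn : S.ncard = n) :
    n * Nat.card ↥(stabilizer M24 x) = 244823040 := by
  have h := (stabilizer M24 x).card_mul_index
  rw [index_stabilizer, hS, hn, card_M24, mul_comm] at h
  exact h

/-- The octads form one orbit. -/
theorem orbit_octad {o : Finset GolayPt} (ho : o ∈ octads) : MulAction.orbit M24 o = octads := by
  ext o'
  constructor
  · rintro ⟨g, rfl⟩; exact smul_mem_octads g.2 ho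
  · intro ho'
    obtain ⟨g, hg, h⟩ := exists_smul_octad ho ho'
    exact ⟨⟨g, hg⟩, h⟩

/-- The stabiliser of an octad has order 322560. -/
theorem card_stabM24_octad {o : Finset GolayPt} (ho : o ∈ octads) :
    Nat.card (stabM24 o) = 322560 := by
  have h := card_stabilizer_of_orbit o (orbit_octad ho) card_octads_eq
  rw [card_stabilizer_eq_card_inf] at h
  change 759 * Nat.card (stabM24 o) = 244823040 at h
  omega

/-- Restriction of the setwise stabiliser to the set. -/
def restrictHom (o : Finset GolayPt) : stabM24 o →* Equiv.Perm ↥o where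
  toFun g := (g : Equiv.Perm GolayPt).subtypePerm (apply_mem_iff_of_smul_eq g.2.2)
  map_one' := Equiv.ext fun _ => rfl
  map_mul' _ _ := Equiv.ext fun _ => rfl

/-- The kernel of restriction is the pointwise stabiliser. -/
theorem mem_ker_restrictHom {o : Finset GolayPt} {g : stabM24 o} :
    g ∈ (restrictHom o).ker ↔ (g : Equiv.Perm GolayPt) ∈ fixM24 o := by
  rw [MonoidHom.mem_ker, mem_fixM24]
  constructor
  · intro h
    refine ⟨g.2.1, fun x hx => ?_⟩
    exact congrArg Subtype.val (Equiv.congr_fun h ⟨x, hx⟩)
  · intro h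
    exact Equiv.ext fun x => Subtype.ext (h.2 x x.2)

/-- The stabiliser of an octad induces the alternating group on it. -/
theorem range_restrictHom_octad {o : Finset GolayPt} (ho : o ∈ octads) :
    (restrictHom o).range = alternatingGroup ↥o := by
  refine Equiv.Perm.eq_alternatingGroup_of_index_eq_two ?_
  have hk : Nat.card (restrictHom o).ker = 16 := by
    rw [← card_fixM24 ho]
    exact Nat.card_congr
      { toFun := fun g => ⟨g.1.1, mem_ker_restrictHom.1 g.2⟩
        invFun := fun g => ⟨⟨g.1, g.2.1, smul_eq_of_mem_fixM24 g.2⟩, mem_ker_restrictHom.2 g.2⟩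
        left_inv := fun _ => rfl
        right_inv := fun _ => rfl }
  have h := Subgroup.card_mul_index (restrictHom o).ker
  rw [Subgroup.index_ker, hk, card_stabM24_octad ho] at h
  have h2 := (restrictHom o).range.card_mul_index
  have hf : Nat.card (Equiv.Perm ↥o) = 40320 := by
    rw [Nat.card_perm, Nat.card_eq_fintype_card, Fintype.card_coe, ho.2]
    rfl
  have hr : Nat.card (restrictHom o).range = 20160 := by omega
  rw [hr, hf] at h2
  omega

end Cfsg.Agent.H11
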